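import Mathlib
import Cfsg.Agent.Transfer.Frobenius
import Cfsg.Agent.Blocks.ItoDegrees

/-!
# Groups in which products of classes of elements of coprime prime power orders are classes

If for every `p`-element `x` and every element `y` of prime power order prime to `p` the products of
conjugates of `x` and `y` form one class, then the group is `p`-solvable.  A minimal normal subgroup
`M` of a counterexample is not `p`-nilpotent, so some prime power `p'`-element `y` of `M` moves an
element `u` of a `p`-subgroup that it normalises; then `x = u⁻¹ * y * u * y⁻¹` satisfies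
`x * y = u⁻¹ * y * u`, whence the class of `y` is invariant under multiplication by the normal
closure `M` of `x`, which contains `y⁻¹`: this is absurd.
-/

namespace Cfsg.Lib.ClassMult

open Subgroup

universe u

variable (p : ℕ) (G : Type u) [Group G]

/-- The product of a conjugate of a `p`-element with one of a `q`-element is conjugate to the
product of the two. -/
def Mult : Prop :=
  ∀ x y : G, (∃ a : ℕ, orderOf x = p ^ a) → (∃ q b : ℕ, q.Prime ∧ q ≠ p ∧ orderOf y = q ^ b) →
    ∀ a b : G, IsConj (x * y) (a * x * a⁻¹ * (b * y * b⁻¹))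

variable {p G}

theorem normalClosure_mul_mem [Finite G] {x y : G}
    (h : ∀ a b : G, IsConj y (a * x * a⁻¹ * (b * y * b⁻¹))) :
    ∀ n ∈ normalClosure ({x} : Set G), ∀ w : G, IsConj y w → IsConj y (n * w) := by
  intro n hn
  have hn' : n ∈ Submonoid.closure (Group.conjugatesOfSet ({x} : Set G)) := by
    have e : normalClosure ({x} : Set G) = closure (Group.conjugatesOfSet ({x} : Set G)) := rfl
    rw [e, ← Subgroup.mem_toSubmonoid, Subgroup.closure_toSubmonoid_of_finite] at hn
    exact hn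
  clear hn
  induction hn' using Submonoid.closure_induction with
  | mem c hc =>
    intro w hw
    obtain ⟨z, hz, hzc⟩ := Group.mem_conjugatesOfSet_iff.1 hc
    rw [Set.mem_singleton_iff] at hz
    subst hz
    obtain ⟨a, rfl⟩ := isConj_iff.1 hzc
    obtain ⟨b, rfl⟩ := isConj_iff.1 hw
    exact h a b
  | one => intro w hw; rwa [one_mul]
  | mul c d _ _ hc hd => intro w hw; rw [mul_assoc]; exact hc _ (hd w hw)

theorem exists_lift_pElement [Finite G] [Fact p.Prime] (L : Subgroup G) [L.Normal] (y : G ⧸ L)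
    (hy : ∃ k : ℕ, orderOf y = p ^ k) :
    ∃ x : G, (∃ k : ℕ, orderOf x = p ^ k) ∧ QuotientGroup.mk' L x = y := by
  obtain ⟨k, hk⟩ := hy
  have hyP : IsPGroup p (Subgroup.zpowers y) := IsPGroup.of_card ((Nat.card_zpowers y).trans hk)
  obtain ⟨R, hR⟩ := hyP.exists_le_sylow
  obtain ⟨S, rfl⟩ := Sylow.mapSurjective_surjective (QuotientGroup.mk'_surjective L) p R
  obtain ⟨x, hx, hxy⟩ := Subgroup.mem_map.1 (hR (Subgroup.mem_zpowers y))
  obtain ⟨j, hj⟩ := IsPGroup.iff_orderOf.1 S.isPGroup' ⟨x, hx⟩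
  exact ⟨x, ⟨j, by rwa [Subgroup.orderOf_mk] at hj⟩, hxy⟩

theorem mult_quotient [Finite G] [Fact p.Prime] (h : Mult p G) (L : Subgroup G) [L.Normal] :
    Mult p (G ⧸ L) := by
  intro x y hx hy a b
  obtain ⟨q, j, hq, hqp, hj⟩ := hy
  haveI : Fact q.Prime := ⟨hq⟩
  obtain ⟨x', hx', rfl⟩ := exists_lift_pElement L x hx
  obtain ⟨y', ⟨j', hj'⟩, rfl⟩ := exists_lift_pElement (p := q) L y ⟨j, hj⟩
  obtain ⟨a', rfl⟩ := QuotientGroup.mk'_surjective L a
  obtain ⟨b', rfl⟩ := QuotientGroup.mk'_surjective L b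
  simpa using (QuotientGroup.mk' L).map_isConj (h x' y' hx' ⟨q, j', hq, hqp, hj'⟩ a' b')

/-- A subgroup without normal `p`-complement has a prime power `p'`-element moving an element of a
`p`-subgroup that it normalises. -/
theorem exists_mover [Finite G] [Fact p.Prime] (hG : ¬ Cfsg.HasNormalPComplement p G) :
    ∃ (U : Subgroup G) (y : G) (u : G), IsPGroup p U ∧ y ∈ normalizer (U : Set G) ∧ u ∈ U ∧
      u * y ≠ y * u ∧ ∃ q b : ℕ, q.Prime ∧ q ≠ p ∧ orderOf y = q ^ b := by
  by_contra hcon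
  push Not at hcon
  apply hG
  refine Cfsg.Lib.Transfer.hasNormalPComplement_of_frobenius fun U hU g hg hcop => ?_
  suffices ∀ n : ℕ, ∀ y : G, orderOf y = n → (orderOf y).Coprime p → y ∈ normalizer (U : Set G) →
      y ∈ centralizer (U : Set G) from this _ g rfl hcop hg
  intro n
  induction n using Nat.recOnPrimePow with
  | zero => intro y hy; exact absurd hy (orderOf_pos y).ne'
  | one =>
    intro y hy _ _
    rw [orderOf_eq_one_iff.1 hy]
    exact one_mem _
  | prime_pow_mul a q k hq hqa hk ih =>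
    intro y hy hyp hyn
    have hqp : q ≠ p := by
      rintro rfl
      exact hq.coprime_iff_not_dvd.1 hyp.symm (hy ▸ (dvd_pow_self q hk.ne').mul_right a)
    have hco : Nat.Coprime (q ^ k) a := (hq.coprime_iff_not_dvd.2 hqa).pow_left k
    have ha0 : a ≠ 0 := fun e => hqa (e ▸ dvd_zero q)
    have h1 : orderOf (y ^ q ^ k) = a := by
      rw [orderOf_pow' _ (pow_ne_zero _ hq.ne_zero), hy,
        Nat.gcd_eq_right (Dvd.intro _ rfl), Nat.mul_div_cancel_left _ (pow_pos hq.pos k)]
    have h2 : orderOf (y ^ a) = q ^ k := by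
      rw [orderOf_pow' _ ha0, hy,
        Nat.gcd_eq_right (Dvd.intro_left _ rfl), Nat.mul_div_cancel _ (Nat.pos_of_ne_zero ha0)]
    have h3 : y ^ q ^ k ∈ centralizer (U : Set G) :=
      ih _ h1 (h1 ▸ hyp.coprime_dvd_left (hy ▸ Dvd.intro_left _ rfl)) (pow_mem hyn _)
    have h4 : y ^ a ∈ centralizer (U : Set G) := by
      rw [mem_centralizer_iff]
      intro u hu
      by_contra hne
      exact hcon U _ u hU (pow_mem hyn _) hu hne q k hq hqp h2
    have h5 := Nat.gcd_eq_gcd_ab (q ^ k) a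
    rw [hco.gcd_eq_one] at h5
    have h6 : y = (y ^ q ^ k) ^ (Nat.gcdA (q ^ k) a) * (y ^ a) ^ (Nat.gcdB (q ^ k) a) := by
      rw [← zpow_natCast, ← zpow_natCast, ← zpow_mul, ← zpow_mul, ← zpow_add, ← h5, Nat.cast_one,
        zpow_one]
    rw [h6]
    exact mul_mem (zpow_mem h3 _) (zpow_mem h4 _)

theorem isPSolvable_of_mult [Fact p.Prime] :
    ∀ (n : ℕ) (G : Type u) [Group G] [Finite G], Nat.card G = n → Mult p G →
      Cfsg.IsPSolvable p G := by
  intro n
  induction n using Nat.strong_induction_on with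
  | _ n ih =>
  intro G _ _ hn h
  subst hn
  rcases subsingleton_or_nontrivial G with hG | hG
  · refine ⟨0, fun _ => ⊥, rfl, ?_, monotone_const, fun _ => inferInstance, fun i => i.elim0⟩
    exact Subsingleton.elim _ _
  obtain ⟨M, ⟨hMn, hM0⟩, hMmin⟩ := wellFounded_lt.has_min
    {N : Subgroup G | N.Normal ∧ N ≠ ⊥} ⟨⊤, inferInstance, top_ne_bot⟩
  haveI := hMn
  refine Cfsg.Lib.Blocks.isPSolvable_extend M ?_ (ih _ ?_ (G ⧸ M) rfl (mult_quotient h M))
  swap
  · rw [← Subgroup.index_eq_card, ← M.card_mul_index]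
    exact lt_mul_of_one_lt_left (Nat.pos_of_ne_zero M.index_ne_zero_of_finite)
      ((Subgroup.one_lt_card_iff_ne_bot M).2 hM0)
  by_contra hM
  rw [not_or] at hM
  have hmin : ∀ N : Subgroup G, N.Normal → N ≤ M → N ≠ ⊥ → N = M := fun N hN hle hne =>
    eq_of_le_of_not_lt hle (fun hlt => hMmin N ⟨hN, hne⟩ hlt)
  have hnn : ¬ Cfsg.HasNormalPComplement p M := by
    intro hc
    obtain ⟨K, hKn, hKc, k, hk⟩ := Cfsg.Lib.Transfer.hasNormalPComplement_iff.1 hc
    haveI := hKn
    have hKG : (K.map M.subtype).Normal := by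
      refine ⟨fun x hx g => ?_⟩
      obtain ⟨z, hz, rfl⟩ := Subgroup.mem_map.1 hx
      refine Subgroup.mem_map.2 ⟨⟨g * z * g⁻¹, hMn.conj_mem z z.2 g⟩, ?_, rfl⟩
      rw [Cfsg.Lib.Transfer.mem_iff_coprime_orderOf hKc hk] at hz ⊢
      rw [← Subgroup.orderOf_coe] at hz ⊢
      have : orderOf (g * (z : G) * g⁻¹) = orderOf (z : G) := by
        rw [← MulAut.conj_apply, MulEquiv.orderOf_eq]
      rwa [this]
    by_cases hK : K.map M.subtype = ⊥
    · rw [Subgroup.map_eq_bot_iff_of_injective _ M.subtype_injective] at hK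
      rw [hK, Subgroup.index_bot] at hk
      exact hM.1 ⟨k, hk⟩
    · have e := hmin _ hKG (Subgroup.map_subtype_le K) hK
      refine hM.2 ?_
      rw [← e, Subgroup.card_map_of_injective M.subtype_injective]
      exact hKc
  obtain ⟨U, y, u, hU, hy, hu, hne, q, b, hq, hqp, hb⟩ := exists_mover hnn
  let x : M := u⁻¹ * (y * u * y⁻¹)
  have hxU : x ∈ U := mul_mem (inv_mem hu) ((Subgroup.mem_normalizer_iff.1 hy u).1 hu)
  have hx1 : x ≠ 1 := by
    intro e
    apply hne
    have e' : u = y * u * y⁻¹ := inv_mul_eq_one.1 e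
    calc u * y = y * u * y⁻¹ * y := by rw [← e']
      _ = y * u := by group
  obtain ⟨a, ha⟩ := IsPGroup.iff_orderOf.1 hU ⟨x, hxU⟩
  rw [Subgroup.orderOf_mk] at ha
  have hconj : IsConj (y : G) ((x : G) * y) :=
    isConj_iff.2 ⟨(u : G)⁻¹, by simp [x, mul_assoc]⟩
  have hK : ∀ c d : G, IsConj (y : G) (c * x * c⁻¹ * (d * y * d⁻¹)) := fun c d =>
    hconj.trans (h x y ⟨a, by rw [Subgroup.orderOf_coe]; exact ha⟩
      ⟨q, b, hq, hqp, by rw [Subgroup.orderOf_coe]; exact hb⟩ c d)
  have hN : normalClosure ({(x : G)} : Set G) = M := by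
    refine hmin _ normalClosure_normal (normalClosure_le_normal (by simp)) ?_
    intro e
    apply hx1
    ext
    have := subset_normalClosure (Set.mem_singleton (x : G))
    rwa [e, SetLike.mem_coe, Subgroup.mem_bot] at this
  have h1 := normalClosure_mul_mem hK (y : G)⁻¹ (by rw [hN]; exact inv_mem y.2) y (IsConj.refl _)
  rw [inv_mul_cancel] at h1
  obtain ⟨c, hc⟩ := isConj_iff.1 h1
  rw [mul_inv_eq_one] at hc
  have hy1 : (y : G) = 1 := by simpa using hc
  apply hne
  have : y = 1 := Subtype.ext hy1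
  rw [this, mul_one, one_mul]

end Cfsg.Lib.ClassMult
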